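import Groth.Agent.HDULib.SmallDerived
import Groth.Agent.SiteBase.KInjSections
import Groth.Agent.SiteBase.KInjAdj
import Groth.Agent.SiteBase.DLim.Acyclic
import Groth.Agent.SiteBase.DLim.Top
import Groth.Agent.SiteBase.Top

/-!
# Negative vanishing and the sheaf property of `V ↦ H^0(f⁻¹ V, K)`
-/

set_option autoImplicit false

universe u

open CategoryTheory CategoryTheory.Limits Opposite TopologicalSpace DerivedCategory

namespace Groth.Agent.HDULib

section Basis

variable {Y : TopCat.{u}} [HasDerivedCategory.{u} (CohTop.Ab Y)]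

/-- An object with no negative cohomology on a basis has no negative cohomology sheaves. -/
lemma isGE_zero_of_basis (Q : DerivedCategory (CohTop.Ab Y)) {B : Set (Opens Y)}
    (hB : Opens.IsBasis B) (h : ∀ V ∈ B, ∀ i : ℤ, i < 0 → Subsingleton (CohCx.HDU Q i V)) :
    Q.IsGE 0 := by
  refine (isGE_iff _ _).2 fun i hi => ?_
  have hs : ∀ (U : Opens Y) (s : (CohCx.HD Q i).obj.obj (op U)), s = 0 := by
    intro U s
    refine TopCat.Presheaf.section_ext (CohCx.HD Q i) U s 0 fun x hx => ?_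
    rw [map_zero]
    obtain ⟨R, hR, hlift⟩ := DLim.exists_cover_cls_lift Q i U s
    obtain ⟨V, j, hj, hxV⟩ := hR x hx
    obtain ⟨W, hW, hxW, hWV⟩ := Opens.isBasis_iff_nbhd.1 hB hxV
    obtain ⟨y, hy⟩ := hlift W (homOfLE hWV ≫ j) (R.downward_closed hj _)
    have : y = 0 := @Subsingleton.elim _ (h W hW i hi) _ _
    rw [this, map_zero] at hy
    refine (TopCat.Presheaf.germ_res_apply (CohCx.HD Q i).obj (homOfLE hWV ≫ j) x hxW s).symm.trans ?_
    exact (congrArg _ hy.symm).trans (map_zero _)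
  refine (IsZero.iff_id_eq_zero _).2 (Sheaf.hom_ext ?_)
  ext U s
  exact (hs U.unop s).trans rfl

/-- In degree zero the hypercohomology presheaf of such an object is a sheaf. -/
lemma isSheaf_HDUPresheaf_zero (Q : DerivedCategory (CohTop.Ab Y)) [Q.IsGE 0] :
    Presheaf.IsSheaf (Opens.grothendieckTopology Y) (CohCx.HDUPresheaf Q 0) := by
  have hb : ∀ U : (Opens Y)ᵒᵖ, IsIso ((DLim.toHD Q 0).app U) := fun U =>
    (ConcreteCategory.isIso_iff_bijective _).2 (DLim.cls_bijective_of_isGE Q 0 U.unop)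
  have : IsIso (DLim.toHD Q 0) := NatIso.isIso_of_isIso_app _
  exact (Presheaf.isSheaf_of_iso_iff (asIso (DLim.toHD Q 0))).2 (CohCx.HD Q 0).property

end Basis

variable {X Y : TopCat.{u}} (f : X ⟶ Y) [HasDerivedCategory.{u} (CohTop.Ab X)]
  [HasDerivedCategory.{u} (CohTop.Ab Y)]

/-- The direct image of a complex of sheaves. -/
noncomputable abbrev pushCx (I : CochainComplex (CohTop.Ab X) ℤ) : CochainComplex (CohTop.Ab Y) ℤ :=
  ((CohTop.push f).mapHomologicalComplex (ComplexShape.up ℤ)).obj I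

lemma isKInjective_pushCx (I : CochainComplex (CohTop.Ab X) ℤ) [I.IsKInjective] :
    (pushCx f I).IsKInjective := by
  have : PreservesFiniteLimits (CohTop.pull f) := SiteBase.preservesFiniteLimits_pull f
  let adj : CohTop.pull f ⊣ CohTop.push f :=
    TopCat.Sheaf.pullbackPushforwardAdjunction AddCommGrpCat.{u} f
  have : PreservesColimitsOfSize.{0, 0} (CohTop.pull f) := adj.leftAdjoint_preservesColimits
  have : PreservesFiniteColimits (CohTop.pull f) := ⟨fun _ => inferInstance⟩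
  have : (CohTop.pull f).Additive := adj.left_adjoint_additive
  exact SiteBase.isKInjective_map adj I

/-- Cohomology of `f_* I` over `V` is cohomology of `I` over `f⁻¹ V`. -/
theorem nonempty_iso_pushCx (I : CochainComplex (CohTop.Ab X) ℤ) [I.IsKInjective] (q : ℤ) :
    Nonempty ((Opens.map f).op ⋙ CohCx.HDUPresheaf (DerivedCategory.Q.obj I) q ≅
      CohCx.HDUPresheaf (DerivedCategory.Q.obj (pushCx f I)) q) := by
  have := isKInjective_pushCx f I
  let W : ((Opens X)ᵒᵖ ⥤ AddCommGrpCat.{u}) ⥤ ((Opens Y)ᵒᵖ ⥤ AddCommGrpCat.{u}) :=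
    (Functor.whiskeringLeft _ _ _).obj (Opens.map f).op
  have : W.Additive := { }
  refine ⟨W.mapIso (KInjSections.iso I q).symm ≪≫
    (((KInjSections.preCx I).sc q).mapHomologyIso W).symm ≪≫ ?_⟩
  exact KInjSections.iso (pushCx f I) q

theorem main {B : Set (Opens Y)} (hB : Opens.IsBasis B) (K : DerivedCategory (CohTop.Ab X))
    (h : ∀ V ∈ B, ∀ i : ℤ, i < 0 → Subsingleton (CohCx.HDU K i ((Opens.map f).obj V))) :
    (∀ (V : Opens Y) (i : ℤ), i < 0 → Subsingleton (CohCx.HDU K i ((Opens.map f).obj V))) ∧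
    Presheaf.IsSheaf (Opens.grothendieckTopology Y) ((Opens.map f).op ⋙ CohCx.HDUPresheaf K 0) := by
  obtain ⟨I, r, hI, hr, -, -⟩ :=
    TriCat.exists_kInjective_resolution'.{u} (DerivedCategory.Q.objPreimage K)
  let eK : K ≅ DerivedCategory.Q.obj I :=
    (DerivedCategory.Q.objObjPreimageIso K).symm ≪≫ asIso (DerivedCategory.Q.map r)
  let Q := DerivedCategory.Q.obj (pushCx.{u} f I)
  have eP : ∀ q : ℤ, Nonempty ((Opens.map f).op ⋙ CohCx.HDUPresheaf K q ≅ CohCx.HDUPresheaf Q q) :=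
    fun q => (nonempty_iso_pushCx f I q).map fun e =>
      Functor.isoWhiskerLeft (Opens.map f).op (Functor.isoWhiskerLeft _
        (preadditiveYoneda.mapIso ((shiftFunctor _ q).mapIso eK))) ≪≫ e
  have eq : ∀ (q : ℤ) (V : Opens Y),
      Nonempty (CohCx.HDU K q ((Opens.map f).obj V) ≃ CohCx.HDU Q q V) := fun q V =>
    (eP q).map fun e => ((e.app (op V)).addCommGroupIsoToAddEquiv).toEquiv
  have : Q.IsGE 0 := isGE_zero_of_basis Q hB fun V hV i hi =>
    (eq i V).elim fun e => e.symm.subsingleton_congr.2 (h V hV i hi)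
  refine ⟨fun V i hi => (eq i V).elim fun e =>
    e.subsingleton_congr.2 (DLim.subsingleton_HDU_of_isGE Q 0 i hi V), ?_⟩
  obtain ⟨e⟩ := eP 0
  exact (Presheaf.isSheaf_of_iso_iff e).2 (isSheaf_HDUPresheaf_zero Q)

end Groth.Agent.HDULib
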