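import Groth.Agent.TriCat.KInjRes
import Mathlib.Algebra.Homology.DerivedCategory.KInjective
import Mathlib.CategoryTheory.EssentiallySmall

/-!
# Derived categories with small morphism types

The derived category of a Grothendieck abelian category has a model whose morphisms live in the
universe of morphisms of the category.
-/

universe w v u

open CategoryTheory

namespace Groth.Agent.HDULib

variable (A : Type u) [Category.{v} A] [Abelian A] [IsGrothendieckAbelian.{w} A]

theorem locallySmall_derived :
    letI := HasDerivedCategory.standard A
    LocallySmall.{v} (DerivedCategory A) := by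
  letI := HasDerivedCategory.standard A
  refine ⟨fun X Y => ?_⟩
  obtain ⟨I, f, hI, hf, -, -⟩ :=
    TriCat.exists_kInjective_resolution'.{w} (DerivedCategory.Q.objPreimage Y)
  let eY : Y ≅ DerivedCategory.Qh.obj ((HomotopyCategory.quotient _ _).obj I) :=
    (DerivedCategory.Q.objObjPreimageIso Y).symm ≪≫ asIso (DerivedCategory.Q.map f) ≪≫
      ((DerivedCategory.quotientCompQhIso A).app I).symm
  let eX : X ≅ DerivedCategory.Qh.obj ((HomotopyCategory.quotient _ _).obj (DerivedCategory.Q.objPreimage X)) :=
    (DerivedCategory.Q.objObjPreimageIso X).symm ≪≫
      ((DerivedCategory.quotientCompQhIso A).app _).symm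
  exact small_map ((eX.homCongr eY).trans
    (Equiv.ofBijective _ (CochainComplex.IsKInjective.Qh_map_bijective
      ((HomotopyCategory.quotient _ _).obj (DerivedCategory.Q.objPreimage X)) I)).symm)

/-- The derived category with small morphisms. -/
@[instance_reducible]
noncomputable def hasDerivedCategory : HasDerivedCategory.{v} A :=
  letI := HasDerivedCategory.standard A
  haveI := locallySmall_derived.{w} A
  { D := ShrinkHoms.{max u v} (DerivedCategory A)
    L := DerivedCategory.Q ⋙ (ShrinkHoms.equivalence.{v} (DerivedCategory A)).functor
    hL := Functor.IsLocalization.of_equivalence_target DerivedCategory.Q _ _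
      (ShrinkHoms.equivalence.{v} (DerivedCategory A)) (Iso.refl _) }

end Groth.Agent.HDULib
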